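import Mathlib.AlgebraicGeometry.IdealSheaf.Subscheme
import Mathlib.AlgebraicGeometry.Morphisms.Flat
import Mathlib.AlgebraicGeometry.Morphisms.FinitePresentation
import Mathlib.AlgebraicGeometry.Morphisms.Affine
import Mathlib.AlgebraicGeometry.Morphisms.ClosedImmersion
import Mathlib.AlgebraicGeometry.Morphisms.Finite

/-!
# Local criteria for the projection of a closed subscheme
-/

universe u

open CategoryTheory AlgebraicGeometry TopologicalSpace

namespace Groth.Agent.DivCurve29

variable {X S : Scheme.{u}} (f : X ⟶ S) (I : X.IdealSheafData)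

/-- The closed subscheme meets an affine open in an affine open. -/
theorem isAffineOpen_preimage (U : X.affineOpens) : IsAffineOpen (I.subschemeι ⁻¹ᵁ U.1) :=
  U.2.preimage I.subschemeι

theorem appLE_hom (V : S.affineOpens) (U : X.affineOpens) (e : U.1 ≤ f ⁻¹ᵁ V.1)
    (e' : I.subschemeι ⁻¹ᵁ U.1 ≤ (I.subschemeι ≫ f) ⁻¹ᵁ V.1) :
    ((I.subschemeι ≫ f).appLE V.1 (I.subschemeι ⁻¹ᵁ U.1) e').hom =
      (I.subschemeObjIso U).commRingCatIsoToRingEquiv.symm.toRingHom.comp
        ((Ideal.Quotient.mk (I.ideal U)).comp (f.appLE V.1 U.1 e).hom) := by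
  rw [← Scheme.Hom.appLE_comp_appLE _ f V.1 U.1 _ e le_rfl, ← Scheme.Hom.app_eq_appLE,
    Scheme.IdealSheafData.subschemeι_app]
  rfl

/-- A property of morphisms holds for `I.subschemeι ≫ f` if it holds on quotient rings near `supp I`. -/
theorem of_quot {P : MorphismProperty Scheme.{u}}
    {Q : ∀ {R S : Type u} [CommRing R] [CommRing S], (R →+* S) → Prop} [HasRingHomProperty P Q]
    (hQ : RingHom.StableUnderCompositionWithLocalizationAwaySource Q) (hQi : RingHom.RespectsIso Q)
    (h : ∀ x ∈ I.support, ∃ (V : S.affineOpens) (U : X.affineOpens) (_ : x ∈ U.1)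
      (e : U.1 ≤ f ⁻¹ᵁ V.1), Q ((Ideal.Quotient.mk (I.ideal U)).comp (f.appLE V.1 U.1 e).hom)) :
    P (I.subschemeι ≫ f) := by
  rw [HasRingHomProperty.iff_exists_appLE (P := P) hQ]
  intro z
  obtain ⟨V, U, hxU, e, hq⟩ := h (I.subschemeι z)
    (by rw [← SetLike.mem_coe, ← I.range_subschemeι]; exact Set.mem_range_self z)
  refine ⟨V, ⟨_, isAffineOpen_preimage I U⟩, hxU, fun w hw => e hw, ?_⟩
  rw [appLE_hom f I V U e]
  exact hQi.1 _ _ hq

/-- Conversely the quotient rings inherit the property. -/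
theorem quot_of {P : MorphismProperty Scheme.{u}}
    {Q : ∀ {R S : Type u} [CommRing R] [CommRing S], (R →+* S) → Prop} [HasRingHomProperty P Q]
    (hQi : RingHom.RespectsIso Q) (h : P (I.subschemeι ≫ f))
    (V : S.affineOpens) (U : X.affineOpens) (e : U.1 ≤ f ⁻¹ᵁ V.1) :
    Q ((Ideal.Quotient.mk (I.ideal U)).comp (f.appLE V.1 U.1 e).hom) := by
  have h' := HasRingHomProperty.appLE P _ h V ⟨_, isAffineOpen_preimage I U⟩ (fun w hw => e hw)
  rw [appLE_hom f I V U e] at h'
  have h'' := hQi.1 _ (I.subschemeObjIso U).commRingCatIsoToRingEquiv h'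
  have key : (I.subschemeObjIso U).commRingCatIsoToRingEquiv.toRingHom.comp
      ((I.subschemeObjIso U).commRingCatIsoToRingEquiv.symm.toRingHom.comp
        ((Ideal.Quotient.mk (I.ideal U)).comp (f.appLE V.1 U.1 e).hom)) =
      (Ideal.Quotient.mk (I.ideal U)).comp (f.appLE V.1 U.1 e).hom :=
    RingHom.ext fun x => (I.subschemeObjIso U).commRingCatIsoToRingEquiv.apply_symm_apply _
  exact key ▸ h''

end Groth.Agent.DivCurve29
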