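import Groth.Agent.S8847
import Groth.Agent.S1570
import Groth.Agent.DivCurve29.Quot
import Groth.Agent.BertiniLib.RelDim
import Groth.Agent.VarietyLib.SmoothStalk
import Groth.Agent.CAlgH3.RegularLocal
import Groth.Agent.Misc15.DivDescentSheaf
import Groth.Prelude.Def_Mor2

/-!
# Relative divisors on smooth curves are effective Cartier
-/

set_option autoImplicit false
set_option backward.isDefEq.respectTransparency false

universe u

open CategoryTheory CategoryTheory.Limits AlgebraicGeometry TopologicalSpace

namespace Groth.Agent.DivCurve29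

/-- The algebra fact at a maximal ideal of a smooth curve. -/
theorem exists_generator_localization {k C : Type u} [Field k] [CommRing C] [Algebra k C]
    [Algebra.IsStandardSmoothOfRelativeDimension 1 k C] (J q : Ideal C) [q.IsPrime]
    (hJq : J ≤ q) [Module.Finite k (C ⧸ J)] (L : Type u) [CommRing L] [Algebra C L]
    [IsLocalization.AtPrime L q] [IsRegularLocalRing L] :
    ∃ g : L, g ∈ nonZeroDivisors L ∧ J.map (algebraMap C L) = Ideal.span {g} := by
  have : Algebra.IsStandardSmooth k C :=
    Algebra.IsStandardSmoothOfRelativeDimension.isStandardSmooth 1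
  have : IsNoetherianRing C := Algebra.FiniteType.isNoetherianRing k C
  have hfin : ∀ P : Ideal C, J ≤ P → Module.Finite k (C ⧸ P) := fun P hP =>
    Module.Finite.of_surjective (Ideal.Quotient.factorₐ k hP).toLinearMap
      (Ideal.Quotient.factor_surjective hP)
  have hmin : ∀ P ∈ minimalPrimes C, ¬ J ≤ P := by
    intro P hP hJP
    have h1 := BertiniLib.ringKrullDim_quotient_minimalPrime (k := k) 1 P hP
    have := hfin P hJP
    have : IsArtinianRing (C ⧸ P) := IsArtinianRing.of_finite k _
    rw [Nat.cast_one] at h1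
    have h2 : ringKrullDim (C ⧸ P) ≤ 0 := Ring.krullDimLE_iff.1 inferInstance
    rw [h1] at h2
    exact absurd h2 (by decide)
  have hqmin : q ∉ minimalPrimes C := fun h => hmin q h hJq
  have : IsLocalRing L := IsLocalization.AtPrime.isLocalRing L q
  have : IsDomain L := CAlgH3.isDomain_of_isRegularLocalRing L
  have hdim1 : ringKrullDim L ≤ 1 := by
    refine le_trans ?_ (BertiniLib.ringKrullDim_le_of_isStandardSmooth (k := k) (C := C) 1)
    rw [IsLocalization.AtPrime.ringKrullDim_eq_height q L]
    exact Ideal.height_le_ringKrullDim_of_ne_top ‹q.IsPrime›.ne_top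
  have hdim0 : ringKrullDim L ≠ 0 := by
    rw [IsLocalization.AtPrime.ringKrullDim_eq_height q L]
    intro h
    exact hqmin (Ideal.height_eq_zero_iff.1 (by exact_mod_cast h))
  have hdim : ringKrullDim L = 1 := by
    refine le_antisymm hdim1 ?_
    rw [IsLocalization.AtPrime.ringKrullDim_eq_height q L] at hdim0 ⊢
    exact_mod_cast Order.one_le_iff_pos.2 (pos_iff_ne_zero.2 fun h => hdim0 (by exact_mod_cast h))
  have hfld : ¬ IsField L := fun hf => hdim0 (by
    letI := hf.toField
    exact ringKrullDim_eq_zero_of_field L)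
  have : IsDiscreteValuationRing L :=
    IsLocalRing.finrank_CotangentSpace_eq_one_iff.1 (by
      have h := (IsRegularLocalRing.iff_finrank_cotangentSpace L).1 inferInstance
      rw [hdim] at h
      exact_mod_cast h)
  obtain ⟨g, hg⟩ := (IsPrincipalIdealRing.principal (J.map (algebraMap C L)))
  refine ⟨g, mem_nonZeroDivisors_of_ne_zero fun h0 => ?_, hg⟩
  -- otherwise `J` would lie in a minimal prime
  obtain ⟨P, hP, hPq⟩ := Ideal.exists_minimalPrimes_le (bot_le (a := q))
  refine hmin P hP fun x hx => ?_
  have hx0 : algebraMap C L x = 0 := by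
    have h := Ideal.mem_map_of_mem (algebraMap C L) hx
    rw [hg, h0] at h
    simpa using h
  obtain ⟨⟨s, hs⟩, hsx⟩ := (IsLocalization.map_eq_zero_iff q.primeCompl L x).1 hx0
  exact (hP.1.1.mem_or_mem (hsx ▸ P.zero_mem)).resolve_left fun h => hs (hPq h)

/-- On a smooth curve over a field a closed subscheme finite over the field is effective Cartier. -/
theorem isEffCartier_of_field (k : Type u) [Field k] {X : Scheme.{u}}
    (c : X ⟶ Spec (CommRingCat.of k)) [SmoothOfRelativeDimension 1 c] (I : X.IdealSheafData)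
    [LocallyQuasiFinite (I.subschemeι ≫ c)] : BlowUp.IsEffCartierIdeal I := by
  have : Smooth c := SmoothOfRelativeDimension.smooth 1 c
  have : IsLocallyNoetherian X := LocallyOfFiniteType.isLocallyNoetherian c
  refine S1570.result X I fun x hxI U' hxU' => ?_
  obtain ⟨W, hW, U, hU, hxU, e, h⟩ := SmoothOfRelativeDimension.exists_isStandardSmoothOfRelativeDimension (n := 1) (f := c) x
  obtain rfl : W = ⊤ := by
    ext y
    simp only [Opens.coe_top, Set.mem_univ, iff_true]
    have : Subsingleton (Spec (CommRingCat.of k)) := inferInstanceAs (Subsingleton (PrimeSpectrum k))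
    exact Subsingleton.elim (c x) y ▸ e hxU
  let φ : k →+* Γ(X, U) := (c.appLE ⊤ U e).hom.comp (Scheme.ΓSpecIso (CommRingCat.of k)).inv.hom
  algebraize [φ]
  have hφ : RingHom.IsStandardSmoothOfRelativeDimension 1 φ :=
    RingHom.isStandardSmoothOfRelativeDimension_respectsIso.2 _
      (Scheme.ΓSpecIso (CommRingCat.of k)).symm.commRingCatIsoToRingEquiv h
  have : Algebra.IsStandardSmoothOfRelativeDimension 1 k Γ(X, U) := hφ
  let J := I.ideal ⟨U, hU⟩
  let q := (hU.primeIdealOf ⟨x, hxU⟩).asIdeal
  have hJq : J ≤ q := by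
    intro a ha
    have h1 : x ∈ X.zeroLocus (U := U) (J : Set Γ(X, U)) ∩ U := by
      rw [← I.coe_support_inter ⟨U, hU⟩]
      exact ⟨hxI, hxU⟩
    have h2 := (X.mem_zeroLocus_iff _ _).1 h1.1 a ha
    by_contra hq
    exact h2 ((hU.fromSpec_image_basicOpen a).le ⟨hU.primeIdealOf ⟨x, hxU⟩, hq,
      hU.fromSpec_primeIdealOf ⟨x, hxU⟩⟩)
  -- the quotient is finite: it is quasi-finite over the field
  have : Module.Finite k (Γ(X, U) ⧸ J) := by
    have hq := quot_of (P := @LocallyQuasiFinite) c I RingHom.QuasiFinite.propertyIsLocal.respectsIso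
      inferInstance ⟨⊤, isAffineOpen_top _⟩ ⟨U, hU⟩ e
    have hq' : (algebraMap k (Γ(X, U) ⧸ J)).QuasiFinite :=
      RingHom.QuasiFinite.propertyIsLocal.respectsIso.2 _
        (Scheme.ΓSpecIso (CommRingCat.of k)).symm.commRingCatIsoToRingEquiv hq
    have : Algebra.QuasiFinite k (Γ(X, U) ⧸ J) := RingHom.quasiFinite_algebraMap.1 hq'
    exact Module.Finite.of_quasiFinite
  have := hU.isLocalization_stalk ⟨x, hxU⟩
  letI := TopCat.Presheaf.algebra_section_stalk X.presheaf (⟨x, hxU⟩ : U)
  have := VarietyLib.isRegularLocalRing_stalk_of_smooth k X c x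
  obtain ⟨g, hg0, hg⟩ := exists_generator_localization (k := k) J q hJq (X.presheaf.stalk x)
  refine ⟨g, hg0, ?_⟩
  rw [← hg]
  exact (Misc15.DivDescent.stk_eq I U' hxU').symm.trans (Misc15.DivDescent.stk_eq I ⟨U, hU⟩ hxU)

/-- A relative divisor on a smooth curve is effective Cartier. -/
theorem isEffCartier {X S : Scheme.{u}} (f : X ⟶ S) [SmoothOfRelativeDimension 1 f]
    (I : X.IdealSheafData) (h : Mor2.IsFinLocFree (I.subschemeι ≫ f)) :
    BlowUp.IsEffCartierIdeal I := by
  obtain ⟨hfin, hflat, hlfp⟩ := h
  have : Smooth f := SmoothOfRelativeDimension.smooth 1 f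
  refine S8847.result f I fun s => ?_
  have := smoothOfRelativeDimension_isStableUnderBaseChange.{u} 1
  have : SmoothOfRelativeDimension 1 (f.fiberToSpecResidueField s) :=
    MorphismProperty.pullback_snd (P := @SmoothOfRelativeDimension 1) _ _ ‹_›
  have : IsFinite ((I.comap (f.fiberι s)).subschemeι ≫ f.fiberToSpecResidueField s) := by
    rw [← I.comapIso_hom_fst (f.fiberι s), Category.assoc]
    have : IsFinite (pullback.fst (f.fiberι s) I.subschemeι ≫ f.fiberToSpecResidueField s) := by
      have sq : IsPullback (pullback.snd (f.fiberι s) I.subschemeι)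
          (pullback.fst (f.fiberι s) I.subschemeι ≫ f.fiberToSpecResidueField s)
          (I.subschemeι ≫ f) (S.fromSpecResidueField s) :=
        (IsPullback.of_hasPullback _ _).flip.paste_vert (IsPullback.of_hasPullback f _)
      exact MorphismProperty.of_isPullback (P := @IsFinite) sq hfin
    infer_instance
  exact isEffCartier_of_field (S.residueField s) (f.fiberToSpecResidueField s) _

end Groth.Agent.DivCurve29
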