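import Groth.Agent.FlatCxLib.Algebra
import Mathlib.RingTheory.RingHom.Flat
import Mathlib.RingTheory.RingHom.FinitePresentation
import Mathlib.LinearAlgebra.Dimension.RankNullity
import Mathlib.RingTheory.Artinian.Ring
import Mathlib.RingTheory.HopkinsLevitzki
import Mathlib.RingTheory.Nakayama

/-!
# Algebra of products of principal ideals
-/

universe u

namespace Groth.Agent.DivCurve29

section Flat

variable {R A : Type u} [CommRing R] [CommRing A] [Algebra R A] {f g : A}

/-- Multiplication by `f` on `A/(g)`. -/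
noncomputable def mulQuot (f g : A) :
    (A ⧸ Ideal.span {g}) →ₗ[R] (A ⧸ Ideal.span {f * g}) :=
  ((Submodule.mapQ (Ideal.span {g}) (Ideal.span {f * g}) (LinearMap.mulLeft A f) (fun x hx => by
    obtain ⟨c, rfl⟩ := Ideal.mem_span_singleton'.1 hx
    exact Ideal.mem_span_singleton'.2 ⟨c, by simp; ring⟩))).restrictScalars R

@[simp]
theorem mulQuot_mk (f g x : A) :
    mulQuot (R := R) f g (Ideal.Quotient.mk _ x) = Ideal.Quotient.mk _ (f * x) := rfl

theorem mulQuot_injective (hf : f ∈ nonZeroDivisors A) :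
    Function.Injective (mulQuot (R := R) f g) := by
  rw [injective_iff_map_eq_zero]
  intro x hx
  obtain ⟨x, rfl⟩ := Ideal.Quotient.mk_surjective x
  rw [mulQuot_mk, Ideal.Quotient.eq_zero_iff_mem, Ideal.mem_span_singleton'] at hx
  obtain ⟨c, hc⟩ := hx
  refine Ideal.Quotient.eq_zero_iff_mem.2 (Ideal.mem_span_singleton'.2 ⟨c, ?_⟩)
  refine (mul_cancel_left_mem_nonZeroDivisors hf).1 ?_
  rw [← hc]; ring

theorem span_mul_le : Ideal.span {f * g} ≤ Ideal.span {f} := by
  rw [Ideal.span_singleton_le_span_singleton]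
  exact dvd_mul_right f g

theorem mulQuot_exact :
    Function.Exact (mulQuot (R := R) f g)
      ((Ideal.Quotient.factorₐ R (span_mul_le (f := f) (g := g))).toLinearMap) := by
  intro y
  obtain ⟨y, rfl⟩ := Ideal.Quotient.mk_surjective y
  constructor
  · intro hy
    have hy' : y ∈ Ideal.span {f} := Ideal.Quotient.eq_zero_iff_mem.1 hy
    obtain ⟨c, rfl⟩ := Ideal.mem_span_singleton'.1 hy'
    exact ⟨Ideal.Quotient.mk _ c, by rw [mulQuot_mk]; exact congrArg _ (mul_comm f c)⟩
  · rintro ⟨x, hx⟩
    obtain ⟨x, rfl⟩ := Ideal.Quotient.mk_surjective x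
    rw [← hx, mulQuot_mk]
    exact Ideal.Quotient.eq_zero_iff_mem.2 (Ideal.mem_span_singleton'.2 ⟨x, mul_comm x f⟩)

theorem flat_quot_mul (hf : f ∈ nonZeroDivisors A) [Module.Flat R (A ⧸ Ideal.span {f})]
    [Module.Flat R (A ⧸ Ideal.span {g})] : Module.Flat R (A ⧸ Ideal.span {f * g}) :=
  FlatCxLib.flat_of_exact_mid _ _ mulQuot_exact (Ideal.Quotient.factor_surjective span_mul_le)
    (mulQuot_injective hf)

theorem flat_quot_of_mul (hf : f ∈ nonZeroDivisors A) [Module.Flat R (A ⧸ Ideal.span {f})]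
    [Module.Flat R (A ⧸ Ideal.span {f * g})] : Module.Flat R (A ⧸ Ideal.span {g}) :=
  FlatCxLib.flat_of_exact_left _ _ mulQuot_exact (Ideal.Quotient.factor_surjective span_mul_le)
    (mulQuot_injective hf)

end Flat

theorem ringHom_flat_quot_mul {R A : Type u} [CommRing R] [CommRing A] (φ : R →+* A) {f g : A}
    (hf : f ∈ nonZeroDivisors A) (h₁ : ((Ideal.Quotient.mk (Ideal.span {f})).comp φ).Flat)
    (h₂ : ((Ideal.Quotient.mk (Ideal.span {g})).comp φ).Flat) :
    ((Ideal.Quotient.mk (Ideal.span {f * g})).comp φ).Flat := by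
  algebraize [φ]
  have : Module.Flat R (A ⧸ Ideal.span {f}) := RingHom.flat_algebraMap_iff.1 h₁
  have : Module.Flat R (A ⧸ Ideal.span {g}) := RingHom.flat_algebraMap_iff.1 h₂
  exact RingHom.flat_algebraMap_iff.2 (flat_quot_mul hf)

theorem ringHom_flat_quot_of_mul {R A : Type u} [CommRing R] [CommRing A] (φ : R →+* A) {f g : A}
    (hf : f ∈ nonZeroDivisors A) (h₁ : ((Ideal.Quotient.mk (Ideal.span {f})).comp φ).Flat)
    (h₂ : ((Ideal.Quotient.mk (Ideal.span {f * g})).comp φ).Flat) :
    ((Ideal.Quotient.mk (Ideal.span {g})).comp φ).Flat := by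
  algebraize [φ]
  have : Module.Flat R (A ⧸ Ideal.span {f}) := RingHom.flat_algebraMap_iff.1 h₁
  have : Module.Flat R (A ⧸ Ideal.span {f * g}) := RingHom.flat_algebraMap_iff.1 h₂
  exact RingHom.flat_algebraMap_iff.2 (flat_quot_of_mul hf)

theorem ringHom_finitePresentation_quot {R A : Type u} [CommRing R] [CommRing A] (φ : R →+* A)
    (h : φ.FinitePresentation) (g : A) :
    ((Ideal.Quotient.mk (Ideal.span {g})).comp φ).FinitePresentation :=
  (RingHom.FinitePresentation.of_surjective _ Ideal.Quotient.mk_surjective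
    (by rw [Ideal.mk_ker]; exact ⟨{g}, by simp⟩)).comp h

/-- Dimensions add up for an ideal that is locally principal with annihilator `b`. -/
theorem finrank_eq_add_of_locally_principal (k : Type u) {B : Type u} [Field k] [CommRing B]
    [Algebra k B] [Module.Finite k B] (a b : Ideal B)
    (h : ∀ m : Ideal B, m.IsMaximal → ∃ t ∉ m, ∃ g ∈ a,
      (∀ x ∈ a, ∃ (n : ℕ) (c : B), t ^ n * x = c * g) ∧ (∀ x ∈ b, ∃ n : ℕ, t ^ n * (x * g) = 0) ∧
        ∀ x : B, x * g = 0 → ∃ n : ℕ, t ^ n * x ∈ b) :
    Module.finrank k B = Module.finrank k (B ⧸ a) + Module.finrank k (B ⧸ b) := by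
  classical
  have hart : IsArtinianRing B := IsArtinianRing.of_finite k B
  have hnoe : IsNoetherianRing B := inferInstance
  let ι := MaximalSpectrum B
  have : Finite ι := inferInstance
  choose t ht g hg h1 h2 h3 using fun m : ι => h m.asIdeal m.isMaximal
  cases nonempty_fintype ι
  have he : ∀ m : ι, ∃ e : B, e - 1 ∈ m.asIdeal ∧ ∀ m' : ι, m' ≠ m → e ∈ m'.asIdeal := by
    intro m
    have hc : Pairwise fun i j : ι => IsCoprime i.asIdeal j.asIdeal := fun i j hij =>
      Ideal.isCoprime_iff_sup_eq.2 (i.isMaximal.coprime_of_ne j.isMaximal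
        fun he => hij (MaximalSpectrum.ext he))
    obtain ⟨e, he⟩ := Ideal.exists_forall_sub_mem_ideal hc (fun i => if i = m then (1 : B) else 0)
    exact ⟨e, by simpa using he m, fun m' hm' => by simpa [hm'] using he m'⟩
  choose e he1 he2 using he
  let G : B := ∑ m, e m * g m
  have hG : G ∈ a := a.sum_mem fun m _ => a.mul_mem_left _ (hg m)
  -- at each maximal ideal `G` is a local unit multiple of the chosen generator
  have key : ∀ m : ι, ∃ s ∉ m.asIdeal, ∃ u ∉ m.asIdeal, s * G = u * g m := by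
    intro m
    have hd : ∀ m', ∃ s ∉ m.asIdeal, ∃ c : B, s * g m' = c * g m := fun m' => by
      obtain ⟨n, c, hc⟩ := h1 m (g m') (hg m')
      exact ⟨t m ^ n, fun hh => ht m (m.isMaximal.isPrime.mem_of_pow_mem n hh), c, hc⟩
    choose s hs c hc using hd
    refine ⟨∏ i, s i, fun hh => ?_,
      ∑ i ∈ Finset.univ.erase m, e i * ((∏ j ∈ Finset.univ.erase i, s j) * c i) + e m * ∏ i, s i,
      fun hh => ?_, ?_⟩
    · obtain ⟨i, -, hi⟩ := (Ideal.IsPrime.prod_mem_iff (hp := m.isMaximal.isPrime)).1 hh
      exact hs i hi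
    · have h4 : ∑ i ∈ Finset.univ.erase m, e i * ((∏ j ∈ Finset.univ.erase i, s j) * c i) ∈ m.asIdeal :=
        m.asIdeal.sum_mem fun i hi => m.asIdeal.mul_mem_right _ (he2 i m (Finset.ne_of_mem_erase hi).symm)
      have h5 := (m.asIdeal.add_mem_iff_right h4).1 hh
      rcases m.isMaximal.isPrime.mem_or_mem h5 with h6 | h6
      · exact m.isMaximal.ne_top ((Ideal.eq_top_iff_one _).2 (by
          simpa using m.asIdeal.sub_mem h6 (he1 m)))
      · obtain ⟨i, -, hi⟩ := (Ideal.IsPrime.prod_mem_iff (hp := m.isMaximal.isPrime)).1 h6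
        exact hs i hi
    · simp only [G, Finset.mul_sum, add_mul, Finset.sum_mul]
      rw [← Finset.add_sum_erase _ _ (Finset.mem_univ m), add_comm]
      congr 1
      · refine Finset.sum_congr rfl fun i _ => ?_
        rw [← Finset.mul_prod_erase _ _ (Finset.mem_univ i)]
        linear_combination (e i * ∏ j ∈ Finset.univ.erase i, s j) * hc i
      · ring
  let μ : B →ₗ[k] B := (LinearMap.mulRight B G).restrictScalars k
  -- the image of multiplication by `G` is `a`
  have hrange : LinearMap.range μ = a.restrictScalars k := by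
    refine le_antisymm ?_ fun x hx => ?_
    · rintro _ ⟨x, rfl⟩
      exact a.mul_mem_left x hG
    · suffices hs : x ∈ Ideal.span {G} by
        obtain ⟨c, rfl⟩ := Ideal.mem_span_singleton'.1 hs
        exact ⟨c, rfl⟩
      let J : Ideal B := (Ideal.span {G} : Ideal B).colon {x}
      suffices hJ : (1 : B) ∈ J by simpa [J, Submodule.mem_colon_singleton] using hJ
      rw [← Ideal.eq_top_iff_one]
      by_contra hne
      obtain ⟨m, hm, hle⟩ := Ideal.exists_le_maximal J hne
      let m' : ι := ⟨m, hm⟩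
      obtain ⟨s, hs, v, hv, hsG⟩ := key m'
      obtain ⟨n, c, hc⟩ := h1 m' x hx
      have : v * t m' ^ n ∈ J := by
        refine Submodule.mem_colon_singleton.2 (Ideal.mem_span_singleton'.2 ⟨c * s, ?_⟩)
        rw [smul_eq_mul]
        linear_combination c * hsG - v * hc
      rcases hm.isPrime.mem_or_mem (hle this) with h6 | h6
      · exact hv h6
      · exact ht m' (hm.isPrime.mem_of_pow_mem n h6)
  have hker : LinearMap.ker μ = b.restrictScalars k := by
    refine Submodule.ext fun x => ⟨fun hx => ?_, fun hx => ?_⟩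
    · have hx' : x * G = 0 := hx
      let J : Ideal B := b.colon {x}
      suffices hJ : (1 : B) ∈ J by simpa [J, Submodule.mem_colon_singleton] using hJ
      rw [← Ideal.eq_top_iff_one]
      by_contra hne
      obtain ⟨m, hm, hle⟩ := Ideal.exists_le_maximal J hne
      let m' : ι := ⟨m, hm⟩
      obtain ⟨s, hs, v, hv, hsG⟩ := key m'
      obtain ⟨n, hn⟩ := h3 m' (v * x) (by linear_combination s * hx' - x * hsG)
      have : t m' ^ n * v ∈ J := by
        refine Submodule.mem_colon_singleton.2 ?_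
        rwa [smul_eq_mul, mul_assoc]
      rcases hm.isPrime.mem_or_mem (hle this) with h6 | h6
      · exact ht m' (hm.isPrime.mem_of_pow_mem n h6)
      · exact hv h6
    · show x * G = 0
      let J : Ideal B := (⊥ : Ideal B).colon {x * G}
      suffices hJ : (1 : B) ∈ J by simpa [J, Submodule.mem_colon_singleton] using hJ
      rw [← Ideal.eq_top_iff_one]
      by_contra hne
      obtain ⟨m, hm, hle⟩ := Ideal.exists_le_maximal J hne
      let m' : ι := ⟨m, hm⟩
      obtain ⟨s, hs, v, hv, hsG⟩ := key m'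
      obtain ⟨n, hn⟩ := h2 m' x hx
      have : t m' ^ n * s ∈ J := by
        refine Submodule.mem_colon_singleton.2 ?_
        rw [smul_eq_mul, Submodule.mem_bot]
        linear_combination (t m' ^ n * x) * hsG + v * hn
      rcases hm.isPrime.mem_or_mem (hle this) with h6 | h6
      · exact ht m' (hm.isPrime.mem_of_pow_mem n h6)
      · exact hs h6
  have e1 := μ.finrank_range_add_finrank_ker
  have e2 := (a.restrictScalars k).finrank_quotient_add_finrank
  have e3 := (b.restrictScalars k).finrank_quotient_add_finrank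
  rw [hrange, hker] at e1
  have e4 : Module.finrank k (B ⧸ a.restrictScalars k) = Module.finrank k (B ⧸ a) :=
    (Submodule.Quotient.restrictScalarsEquiv k a).finrank_eq
  have e5 : Module.finrank k (B ⧸ b.restrictScalars k) = Module.finrank k (B ⧸ b) :=
    (Submodule.Quotient.restrictScalarsEquiv k b).finrank_eq
  omega

end Groth.Agent.DivCurve29
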