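import Groth.Agent.ModPairLib.EffCartier
import Mathlib.RingTheory.Ideal.Colon

/-!
# The residual of an effective Cartier divisor
-/

set_option autoImplicit false
set_option backward.isDefEq.respectTransparency false

universe u

open CategoryTheory AlgebraicGeometry

namespace Groth.Agent.DivCurve29

theorem map_colon_localization {C L : Type u} [CommRing C] [CommRing L] [Algebra C L] (f : C)
    [IsLocalization.Away f L] (A E : Ideal C) (hE : E.FG) :
    (A.colon (E : Set C)).map (algebraMap C L) =
      (A.map (algebraMap C L)).colon (E.map (algebraMap C L) : Set L) := by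
  classical
  refine le_antisymm ?_ fun z hz => ?_
  · rw [Ideal.map_le_iff_le_comap]
    intro c hc
    rw [Ideal.mem_comap, Submodule.mem_colon]
    intro p hp
    change algebraMap C L c * p ∈ A.map (algebraMap C L)
    have : E.map (algebraMap C L) ≤
        (A.map (algebraMap C L)).colon {algebraMap C L c} := by
      rw [Ideal.map_le_iff_le_comap]
      intro e he
      rw [Ideal.mem_comap, Submodule.mem_colon_singleton, smul_eq_mul, ← map_mul, mul_comm]
      exact Ideal.mem_map_of_mem _ (Submodule.mem_colon.1 hc e he)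
    rw [mul_comm]
    exact Submodule.mem_colon_singleton.1 (this hp)
  · obtain ⟨⟨c, ⟨_, n, rfl⟩⟩, hc⟩ := IsLocalization.surj (Submonoid.powers f) z
    obtain ⟨s, rfl⟩ := hE
    have hcol : ∀ e ∈ s, ∃ l : ℕ, f ^ l * (c * e) ∈ A := by
      intro e he
      have h := Submodule.mem_colon.1 hz _ (Ideal.mem_map_of_mem _ (Ideal.subset_span he))
      have h' : algebraMap C L (c * e) ∈ A.map (algebraMap C L) := by
        rw [map_mul, ← hc, mul_assoc, mul_comm _ (algebraMap C L e), ← mul_assoc]
        exact Ideal.mul_mem_right _ _ h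
      obtain ⟨_, ⟨l, rfl⟩, hl⟩ :=
        (IsLocalization.algebraMap_mem_map_algebraMap_iff (Submonoid.powers f) _ A _).1 h'
      exact ⟨l, hl⟩
    choose! l hl using hcol
    have hmem : f ^ s.sup l * c ∈ A.colon (Ideal.span (s : Set C) : Set C) := by
      rw [Submodule.mem_colon]
      intro p hp
      have : Ideal.span (s : Set C) ≤ A.colon {f ^ s.sup l * c} := Ideal.span_le.2 fun e he => by
        refine Submodule.mem_colon_singleton.2 ?_
        rw [smul_eq_mul, mul_comm, mul_assoc,
          show f ^ s.sup l = f ^ (s.sup l - l e) * f ^ l e by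
            rw [← pow_add, Nat.sub_add_cancel (Finset.le_sup he)], mul_assoc]
        exact A.mul_mem_left _ (hl e he)
      rw [smul_eq_mul, mul_comm]
      exact Submodule.mem_colon_singleton.1 (this hp)
    have hu : IsUnit (algebraMap C L (f ^ (n + s.sup l))) :=
      IsLocalization.map_units L (⟨_, n + s.sup l, rfl⟩ : Submonoid.powers f)
    rw [← Ideal.mul_unit_mem_iff_mem _ hu, pow_add, map_mul, ← mul_assoc, hc, mul_comm, ← map_mul]
    exact Ideal.mem_map_of_mem _ hmem

variable {X : Scheme.{u}}

/-- The quotient of an ideal sheaf by one of finite type. -/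
def colonSheaf (A E : X.IdealSheafData) (hE : BlowUp.IsFiniteTypeIdeal E) : X.IdealSheafData where
  ideal U := (A.ideal U).colon (E.ideal U : Set Γ(X, U.1))
  map_ideal_basicOpen U g := by
    letI := (X.presheaf.map (homOfLE <| X.basicOpen_le g).op).hom.toAlgebra
    have : IsLocalization.Away g Γ(X, X.basicOpen g) := U.2.isLocalization_basicOpen g
    rw [show (X.presheaf.map (homOfLE <| X.basicOpen_le g).op).hom =
        algebraMap Γ(X, U.1) Γ(X, X.basicOpen g) from rfl, map_colon_localization g _ _ (hE U)]
    have h1 := A.map_ideal_basicOpen U g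
    have h2 := E.map_ideal_basicOpen U g
    rw [← h1, ← h2]
    rfl

/-- If `A ≤ E` with `E` effective Cartier, then `A` is a multiple of `E`. -/
theorem exists_eq_mul {A E : X.IdealSheafData} (hE : BlowUp.IsEffCartierIdeal E) (h : A ≤ E) :
    ∃ K : X.IdealSheafData, A = E * K := by
  refine ⟨colonSheaf A E (ModPairLib.isFiniteType_of_effCartier hE),
    ModPairLib.eq_of_local fun x => ?_⟩
  obtain ⟨U, hxU, e, -, he⟩ := hE x
  refine ⟨U, hxU, ?_⟩
  rw [Scheme.IdealSheafData.ideal_mul, Pi.mul_apply]
  refine le_antisymm (fun a ha => ?_) ?_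
  · obtain ⟨c, rfl⟩ := Ideal.mem_span_singleton'.1 (he ▸ h U ha)
    rw [mul_comm c e]
    have hc : c ∈ (A.ideal U).colon (E.ideal U : Set Γ(X, U.1)) := Submodule.mem_colon.2 ?_
    exact Ideal.mul_mem_mul (he ▸ Ideal.mem_span_singleton_self e) hc
    intro p hp
    obtain ⟨d, rfl⟩ := Ideal.mem_span_singleton'.1 (he ▸ hp)
    rw [smul_eq_mul, mul_left_comm]
    exact Ideal.mul_mem_left _ d ha
  · exact Ideal.mul_le.2 fun p hp c hc => mul_comm c p ▸ Submodule.mem_colon.1 hc p hp

end Groth.Agent.DivCurve29
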