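import Groth.Agent.DivCurve29.Quot
import Groth.Agent.MorProj.SepDescent
import Mathlib.AlgebraicGeometry.ZariskisMainTheorem

/-!
# The union of two finite closed subschemes is finite
-/

universe u

open CategoryTheory CategoryTheory.Limits AlgebraicGeometry

namespace Groth.Agent.DivCurve29

theorem mul_le_left' {X : Scheme.{u}} (I J : X.IdealSheafData) : I * J ≤ I :=
  fun U => (Ideal.mul_le_left : I.ideal U * J.ideal U ≤ I.ideal U)

theorem mul_le_right' {X : Scheme.{u}} (I J : X.IdealSheafData) : I * J ≤ J :=
  fun U => (Ideal.mul_le_right : I.ideal U * J.ideal U ≤ J.ideal U)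

theorem isFinite_mul {X S : Scheme.{u}} (f : X ⟶ S) (I J : X.IdealSheafData)
    [IsFinite (I.subschemeι ≫ f)] [IsFinite (J.subschemeι ≫ f)]
    [LocallyOfFiniteType ((I * J).subschemeι ≫ f)] : IsFinite ((I * J).subschemeι ≫ f) := by
  let i := Scheme.IdealSheafData.inclusion (mul_le_left' I J)
  let j := Scheme.IdealSheafData.inclusion (mul_le_right' I J)
  let a := coprod.desc i j
  let g := (I * J).subschemeι ≫ f
  have hi : i ≫ g = I.subschemeι ≫ f := Scheme.IdealSheafData.inclusion_subschemeι_assoc _ _
  have hj : j ≫ g = J.subschemeι ≫ f := Scheme.IdealSheafData.inclusion_subschemeι_assoc _ _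
  have hag : a ≫ g = coprod.desc (I.subschemeι ≫ f) (J.subschemeι ≫ f) := by
    apply coprod.hom_ext <;> simp [a, hi, hj]
  have : IsFinite (a ≫ g) := by rw [hag]; infer_instance
  have : IsClosedImmersion (i ≫ (I * J).subschemeι) := by
    rw [Scheme.IdealSheafData.inclusion_subschemeι]; infer_instance
  have : IsClosedImmersion (j ≫ (I * J).subschemeι) := by
    rw [Scheme.IdealSheafData.inclusion_subschemeι]; infer_instance
  have : IsClosedImmersion i := IsClosedImmersion.of_comp_isClosedImmersion i (I * J).subschemeι
  have : IsClosedImmersion j :=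
    IsClosedImmersion.of_comp_isClosedImmersion j (I * J).subschemeι
  have : IsFinite a := inferInstanceAs (IsFinite (coprod.desc i j))
  have hsurj : ∀ z : (I * J).subscheme, z ∈ Set.range i ∨ z ∈ Set.range j := by
    intro z
    have hz : (I * J).subschemeι z ∈ (I.support : Set X) ⊔ (J.support : Set X) := by
      have h := Set.mem_range_self (f := (I * J).subschemeι) z
      rw [Scheme.IdealSheafData.range_subschemeι, Scheme.IdealSheafData.support_mul] at h
      exact h
    rw [← I.range_subschemeι, ← J.range_subschemeι] at hz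
    rcases hz with ⟨y, hy⟩ | ⟨y, hy⟩
    · refine Or.inl ⟨y, (I * J).subschemeι.isClosedEmbedding.injective ?_⟩
      rw [← Scheme.Hom.comp_apply, Scheme.IdealSheafData.inclusion_subschemeι, hy]
    · refine Or.inr ⟨y, (I * J).subschemeι.isClosedEmbedding.injective ?_⟩
      rw [← Scheme.Hom.comp_apply, Scheme.IdealSheafData.inclusion_subschemeι, hy]
  have : Surjective a := ⟨fun z => by
    rcases hsurj z with ⟨y, rfl⟩ | ⟨y, rfl⟩
    · exact ⟨(coprod.inl : I.subscheme ⟶ _) y, by rw [← Scheme.Hom.comp_apply, coprod.inl_desc]⟩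
    · exact ⟨(coprod.inr : J.subscheme ⟶ _) y, by rw [← Scheme.Hom.comp_apply, coprod.inr_desc]⟩⟩
  have : UniversallyClosed g := UniversallyClosed.of_comp_surjective a g
  have : IsSeparated g := MorProj.isSeparated_of_universallyClosed_surjective a g
  have : IsProper g := {}
  have : LocallyQuasiFinite g := LocallyQuasiFinite.of_finite_preimage_singleton g fun s => by
    refine (((a ≫ g).finite_preimage_singleton s).image a).subset fun z hz => ?_
    obtain ⟨y, rfl⟩ := Scheme.Hom.surjective a z
    exact ⟨y, by simpa using hz, rfl⟩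
  exact IsFinite.of_isProper_of_locallyQuasiFinite g

end Groth.Agent.DivCurve29
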