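import Groth.Agent.DivCurve29.Algebra
import Groth.Agent.DivCurve29.Union
import Groth.Agent.ProjLib.IdealComap
import Groth.Agent.ModPairLib.EffCartier
import Mathlib.AlgebraicGeometry.Morphisms.FlatRank

/-!
# Degrees of relative divisors add up
-/

set_option autoImplicit false
set_option backward.isDefEq.respectTransparency false

universe u

open CategoryTheory CategoryTheory.Limits AlgebraicGeometry TopologicalSpace

namespace Groth.Agent.DivCurve29

/-- The structure ring map of a scheme over a field on global sections. -/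
noncomputable def globalHom {k : Type u} [Field k] {W : Scheme.{u}}
    (g : W ⟶ Spec (CommRingCat.of k)) : k →+* Γ(W, ⊤) :=
  g.appTop.hom.comp (Scheme.ΓSpecIso (CommRingCat.of k)).inv.hom

theorem finrank_eq_global {k : Type u} [Field k] {W : Scheme.{u}}
    (g : W ⟶ Spec (CommRingCat.of k)) [IsFinite g] (y : Spec (CommRingCat.of k)) :
    g.finrank y = @Module.finrank k Γ(W, ⊤) _ _ (globalHom g).toAlgebra.toModule := by
  have : IsAffine W := isAffine_of_isAffineHom g
  letI := (globalHom g).toAlgebra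
  have hg : W.isoSpec.inv ≫ g = Spec.map (CommRingCat.ofHom (algebraMap k Γ(W, ⊤))) := by
    rw [Iso.inv_comp_eq]
    change g = W.isoSpec.hom ≫ Spec.map ((Scheme.ΓSpecIso (CommRingCat.of k)).inv ≫ g.appTop)
    rw [Spec.map_comp, ← Scheme.isoSpec_Spec_inv, ← Category.assoc]
    erw [Scheme.isoSpec_hom_naturality]
    simp
  have hfin : Module.Finite k Γ(W, ⊤) := by
    have : IsFinite (Spec.map (CommRingCat.ofHom (algebraMap k Γ(W, ⊤)))) := hg ▸ inferInstance
    exact RingHom.finite_algebraMap.1 ((IsFinite.SpecMap_iff _).1 this)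
  haveI : Flat g := inferInstance
  rw [← Scheme.Hom.finrank_comp_left_of_isIso W.isoSpec.inv g, hg]
  rw [Scheme.Hom.finrank_SpecMap_algebraMap k Γ(W, ⊤) y, Module.rankAtStalk_eq_finrank_of_free]
  rfl

theorem finrank_closed {k : Type u} [Field k] {Z : Scheme.{u}} [IsAffine Z]
    (g : Z ⟶ Spec (CommRingCat.of k)) (K : Z.IdealSheafData) [IsFinite (K.subschemeι ≫ g)]
    (y : Spec (CommRingCat.of k)) :
    letI := (globalHom g).toAlgebra
    (K.subschemeι ≫ g).finrank y =
      Module.finrank k (Γ(Z, ⊤) ⧸ K.ideal ⟨⊤, isAffineOpen_top Z⟩) := by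
  let := (globalHom g).toAlgebra
  rw [finrank_eq_global]
  let := (globalHom (K.subschemeι ≫ g)).toAlgebra
  let e : (Γ(Z, ⊤) ⧸ K.ideal ⟨⊤, isAffineOpen_top Z⟩) ≃+* Γ(K.subscheme, ⊤) :=
    (K.subschemeObjIso ⟨⊤, isAffineOpen_top Z⟩).commRingCatIsoToRingEquiv.symm
  have he : ∀ c : k, e (algebraMap k _ c) = algebraMap k Γ(K.subscheme, ⊤) c := by
    intro c
    have h := ConcreteCategory.congr_hom (K.subschemeι_app ⟨⊤, isAffineOpen_top Z⟩)
      (g.appTop ((Scheme.ΓSpecIso (CommRingCat.of k)).inv c))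
    exact h.symm
  exact ((AlgEquiv.ofRingEquiv (f := e) he).toLinearEquiv.finrank_eq).symm

/-- Additivity of degrees over a field. -/
theorem finrank_mul_field {k : Type u} [Field k] {X : Scheme.{u}}
    (c : X ⟶ Spec (CommRingCat.of k)) (I J : X.IdealSheafData)
    (hI : BlowUp.IsEffCartierIdeal I) (hJ : BlowUp.IsEffCartierIdeal J)
    [IsFinite (I.subschemeι ≫ c)] [IsFinite (J.subschemeι ≫ c)]
    [IsFinite ((I * J).subschemeι ≫ c)] (y : Spec (CommRingCat.of k)) :
    ((I * J).subschemeι ≫ c).finrank y =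
      (I.subschemeι ≫ c).finrank y + (J.subschemeι ≫ c).finrank y := by
  let ι := (I * J).subschemeι
  let g := ι ≫ c
  have : IsAffine (I * J).subscheme := isAffine_of_isAffineHom g
  -- each factor as a closed subscheme of the product
  have key : ∀ (K : X.IdealSheafData) (h : I * J ≤ K) [IsFinite (K.subschemeι ≫ c)],
      ∃ _ : IsFinite ((K.comap ι).subschemeι ≫ g),
      (K.subschemeι ≫ c).finrank y = ((K.comap ι).subschemeι ≫ g).finrank y := by
    intro K h _
    have : IsIso (pullback.snd ι K.subschemeι) :=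
      ⟨pullback.lift (Scheme.IdealSheafData.inclusion h) (𝟙 _) (by simp [ι]),
        pullback.hom_ext (by rw [← cancel_mono ι]; simp [ι, pullback.condition]) (by simp),
        by simp⟩
    have heq : (K.comap ι).subschemeι ≫ g =
        ((K.comapIso ι).hom ≫ pullback.snd ι K.subschemeι) ≫ K.subschemeι ≫ c := by
      simp only [g, Category.assoc, ← pullback.condition_assoc]
      rw [Scheme.IdealSheafData.comapIso_hom_fst_assoc]
    rw [heq]
    haveI : Flat (K.subschemeι ≫ c) := inferInstance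
    exact ⟨inferInstance, (congrFun (Scheme.Hom.finrank_comp_left_of_isIso _ _) y).symm⟩
  obtain ⟨_, e₁⟩ := key I (mul_le_left' I J)
  obtain ⟨_, e₂⟩ := key J (mul_le_right' I J)
  rw [e₁, e₂, finrank_closed g _ y, finrank_closed g _ y, finrank_eq_global g y]
  letI := (globalHom g).toAlgebra
  have : Module.Finite k Γ((I * J).subscheme, ⊤) := by
    exact RingHom.finite_algebraMap.1 (g.finite_appTop.comp
      (.of_surjective _ (ConcreteCategory.bijective_of_isIso (Scheme.ΓSpecIso (CommRingCat.of k)).inv).2))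
  let T : (I * J).subscheme.affineOpens := ⟨⊤, isAffineOpen_top _⟩
  refine finrank_eq_add_of_locally_principal k _ _ fun m hm => ?_
  let p : PrimeSpectrum Γ((I * J).subscheme, ⊤) := ⟨m, hm.isPrime⟩
  let z : (I * J).subscheme := (isAffineOpen_top _).fromSpec p
  obtain ⟨U₀, hxU₀, f₁, hf₁, hI₁⟩ := hI (ι z)
  obtain ⟨U, hxU, hUU₀, f₂, hf₂, hJ₂⟩ := ModPairLib.exists_local hJ (ι z) U₀.1 hxU₀
  have hI₁' := ModPairLib.ideal_restrict I (U := U₀) (V := U) hUU₀ hI₁
  have hf₁' := ModPairLib.res_mem_nonZeroDivisors (U := U₀) (V := U) hUU₀ hf₁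
  obtain ⟨t, htV, hzt⟩ := (isAffineOpen_top (I * J).subscheme).exists_basicOpen_le
    (V := ι ⁻¹ᵁ U.1) ⟨z, hxU⟩ (Opens.mem_top z)
  obtain ⟨h, hh⟩ := (I * J).subschemeι_app_surjective U
    ((I * J).subscheme.presheaf.map (homOfLE le_top).op t)
  let W : X.affineOpens := ⟨X.basicOpen h, U.2.basicOpen h⟩
  have hWU : W.1 ≤ U.1 := X.basicOpen_le h
  have hpre : ι ⁻¹ᵁ W.1 = (I * J).subscheme.basicOpen t := by
    show ι ⁻¹ᵁ X.basicOpen h = _
    rw [Scheme.preimage_basicOpen]
    show (I * J).subscheme.basicOpen (ι.app U.1 h) = _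
    rw [hh, Scheme.basicOpen_res, inf_eq_right.2 htV]
  let D : (I * J).subscheme.affineOpens := ⟨_, (isAffineOpen_top _).basicOpen t⟩
  let φ : Γ(X, W.1) →+* Γ((I * J).subscheme, D.1) := (ι.appLE W.1 D.1 hpre.ge).hom
  have : IsIso (homOfLE hpre.ge) :=
    ⟨homOfLE hpre.le, Subsingleton.elim _ _, Subsingleton.elim _ _⟩
  have hbij := ConcreteCategory.bijective_of_isIso
    ((I * J).subscheme.presheaf.map (homOfLE hpre.ge).op)
  have hφs : Function.Surjective φ := by
    intro s
    obtain ⟨s₁, rfl⟩ := hbij.2 s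
    obtain ⟨s', rfl⟩ := (I * J).subschemeι_app_surjective W s₁
    exact ⟨s', rfl⟩
  have hφk : ∀ s, φ s = 0 → s ∈ (I * J).ideal W := by
    intro s hs
    rw [← (I * J).ker_subschemeι_app W, RingHom.mem_ker]
    exact hbij.1 (hs.trans (map_zero _).symm)
  have hIW := ModPairLib.ideal_restrict I (U := U) (V := W) hWU hI₁'
  have hJW := ModPairLib.ideal_restrict J (U := U) (V := W) hWU hJ₂
  have hF₁ := ModPairLib.res_mem_nonZeroDivisors (U := U) (V := W) hWU hf₁'
  generalize X.presheaf.map (homOfLE hWU).op f₂ = F₂ at hJW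
  generalize hF : X.presheaf.map (homOfLE hWU).op (X.presheaf.map (homOfLE hUU₀).op f₁) = F₁ at hIW hF₁
  have hprod : (I * J).ideal W = Ideal.span {F₁ * F₂} := by
    rw [Scheme.IdealSheafData.ideal_mul, Pi.mul_apply, hIW, hJW, Ideal.span_singleton_mul_span_singleton]
  let res : Γ((I * J).subscheme, ⊤) →+* Γ((I * J).subscheme, D.1) :=
    ((I * J).subscheme.presheaf.map (homOfLE (le_top : D.1 ≤ ⊤)).op).hom
  letI := res.toAlgebra
  have : IsLocalization.Away t Γ((I * J).subscheme, D.1) :=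
    (isAffineOpen_top _).isLocalization_basicOpen t
  have hmap : ∀ (K : X.IdealSheafData) (F : Γ(X, W.1)), K.ideal W = Ideal.span {F} →
      ((K.comap ι).ideal T).map res = Ideal.span {φ F} := by
    intro K F hK
    rw [show ((K.comap ι).ideal T).map res = (K.comap ι).ideal D from
      (K.comap ι).map_ideal (U := D) (V := T) (fun _ _ => trivial), ProjLib.comap_ideal_eq K ι W D hpre.ge, hK,
      Ideal.map_span, Set.image_singleton]
  have ha := hmap I F₁ hIW
  have hb := hmap J F₂ hJW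
  have hmem : ∀ (K : X.IdealSheafData) (x : Γ((I * J).subscheme, ⊤)),
      res x ∈ ((K.comap ι).ideal T).map res → ∃ n : ℕ, t ^ n * x ∈ (K.comap ι).ideal T := by
    intro K x hx
    obtain ⟨_, ⟨n, rfl⟩, hs⟩ :=
      (IsLocalization.algebraMap_mem_map_algebraMap_iff (Submonoid.powers t) _ _ x).1 hx
    exact ⟨n, hs⟩
  -- a global element generating the first ideal on the basic open
  obtain ⟨⟨xa, xb⟩, hx₀'⟩ := (IsLocalization.mem_map_algebraMap_iff
    (Submonoid.powers t) Γ((I * J).subscheme, D.1)).1 (show φ F₁ ∈ ((I.comap ι).ideal T).map (algebraMap _ _) from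
      ha ▸ Ideal.mem_span_singleton_self _)
  obtain ⟨x₀, hx₀⟩ := xa
  obtain ⟨_, n₀, rfl⟩ := xb
  have hu : IsUnit (res (t ^ n₀)) := IsLocalization.map_units _ (⟨t ^ n₀, n₀, rfl⟩ : Submonoid.powers t)
  have hx₀'' : φ F₁ * res (t ^ n₀) = res x₀ := hx₀'
  refine ⟨t, fun htm => ?_, x₀, hx₀, fun x hx => ?_, fun x hx => ?_, fun x hx => ?_⟩
  · exact absurd htm (((isAffineOpen_top _).fromSpec_preimage_basicOpen t).le hzt)
  · obtain ⟨d, hd⟩ := Ideal.mem_span_singleton'.1 (ha ▸ Ideal.mem_map_of_mem res hx)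
    obtain ⟨⟨c', ⟨_, n, rfl⟩⟩, hc'⟩ := IsLocalization.surj (Submonoid.powers t) d
    have hc'' : d * res (t ^ n) = res c' := hc'
    obtain ⟨⟨_, l, rfl⟩, hl⟩ := IsLocalization.exists_of_eq (M := Submonoid.powers t)
      (x := t ^ (n + n₀) * x) (y := c' * x₀) (S := Γ((I * J).subscheme, D.1)) (by
        show res _ = res _
        rw [map_mul, map_mul, pow_add, map_mul, ← hd, ← hc'', ← hx₀'']
        ring)
    exact ⟨l + (n + n₀), t ^ l * c', by linear_combination hl⟩
  · obtain ⟨d, hd⟩ := Ideal.mem_span_singleton'.1 (hb ▸ Ideal.mem_map_of_mem res hx)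
    obtain ⟨⟨_, l, rfl⟩, hl⟩ := IsLocalization.exists_of_eq (M := Submonoid.powers t)
      (x := x * x₀) (y := 0) (S := Γ((I * J).subscheme, D.1)) (by
        show res _ = res _
        have h0 : φ (F₁ * F₂) = 0 := by
          have : F₁ * F₂ ∈ (I * J).ideal W := hprod ▸ Ideal.mem_span_singleton_self _
          rw [← (I * J).ker_subschemeι_app W, RingHom.mem_ker] at this
          simp only [φ, Scheme.Hom.appLE, CommRingCat.hom_comp, RingHom.comp_apply]
          exact (congrArg _ this).trans (map_zero _)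
        rw [map_mul, map_zero, ← hd, ← hx₀'']
        rw [map_mul] at h0
        linear_combination (d * res (t ^ n₀)) * h0)
    exact ⟨l, by simpa using hl⟩
  · have h1 : res x * φ F₁ = 0 := by
      have := congrArg res hx
      rw [map_mul, map_zero, ← hx₀'', ← mul_assoc] at this
      exact hu.mul_left_eq_zero.1 this
    obtain ⟨s, hs⟩ := hφs (res x)
    have h2 : s * F₁ ∈ (I * J).ideal W := hφk _ (by rw [map_mul, hs, h1])
    rw [hprod] at h2
    obtain ⟨d, hd⟩ := Ideal.mem_span_singleton'.1 h2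
    have h3 : s = d * F₂ := (mul_cancel_right_mem_nonZeroDivisors hF₁).1 (by rw [← hd]; ring)
    refine hmem J x (hb ▸ ?_)
    rw [← hs, h3, map_mul]
    exact Ideal.mem_span_singleton'.2 ⟨φ d, rfl⟩

/-- Additivity of degrees of relative effective Cartier divisors. -/
theorem finrank_mul {X S : Scheme.{u}} (f : X ⟶ S) (I J : X.IdealSheafData)
    (hI : ∀ s, BlowUp.IsEffCartierIdeal (I.comap (f.fiberι s)))
    (hJ : ∀ s, BlowUp.IsEffCartierIdeal (J.comap (f.fiberι s)))
    [IsFinite (I.subschemeι ≫ f)] [Flat (I.subschemeι ≫ f)]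
    [IsFinite (J.subschemeι ≫ f)] [Flat (J.subschemeι ≫ f)]
    [IsFinite ((I * J).subschemeι ≫ f)] [Flat ((I * J).subschemeι ≫ f)] (s : S) :
    ((I * J).subschemeι ≫ f).finrank s =
      (I.subschemeι ≫ f).finrank s + (J.subschemeι ≫ f).finrank s := by
  let c := f.fiberToSpecResidueField s
  let pt : Spec (S.residueField s) := IsLocalRing.closedPoint (S.residueField s)
  have hpt : S.fromSpecResidueField s pt = s := S.fromSpecResidueField_apply s pt
  have key : ∀ (K : X.IdealSheafData) [IsFinite (K.subschemeι ≫ f)] [Flat (K.subschemeι ≫ f)],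
      ∃ _ : IsFinite ((K.comap (f.fiberι s)).subschemeι ≫ c),
      (K.subschemeι ≫ f).finrank s = ((K.comap (f.fiberι s)).subschemeι ≫ c).finrank pt := by
    intro K _ _
    have sq : IsPullback ((K.comapIso (f.fiberι s)).hom ≫ pullback.snd (f.fiberι s) K.subschemeι)
        ((K.comap (f.fiberι s)).subschemeι ≫ c) (K.subschemeι ≫ f) (S.fromSpecResidueField s) := by
      refine (IsPullback.of_hasPullback _ _).flip.paste_vert (IsPullback.of_hasPullback f _)
        |>.of_iso (K.comapIso (f.fiberι s)).symm (Iso.refl _) (Iso.refl _) (Iso.refl _) ?_ ?_ ?_ ?_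
      · rw [Iso.refl_hom, Category.comp_id, Iso.symm_hom, Iso.inv_hom_id_assoc]; rfl
      · rw [Iso.refl_hom, Category.comp_id, Iso.symm_hom,
          Scheme.IdealSheafData.comapIso_inv_subschemeι_assoc]
        rfl
      · simp
      · simp
    exact ⟨MorphismProperty.of_isPullback (P := @IsFinite) sq ‹_›,
      by rw [Scheme.Hom.finrank_of_isPullback _ _ _ _ sq pt, hpt]⟩
  obtain ⟨_, e₁⟩ := key I
  obtain ⟨_, e₂⟩ := key J
  obtain ⟨h₃, e₃⟩ := key (I * J)
  have hc := ModPairLib.comap_mul I J (f.fiberι s)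
  rw [hc] at h₃ e₃
  rw [e₁, e₂, e₃]
  exact finrank_mul_field (k := S.residueField s) c _ _ (hI s) (hJ s) pt

end Groth.Agent.DivCurve29
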