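import Groth.Agent.DivCurve29.Cartier
import Groth.Agent.DivCurve29.Rank
import Groth.Agent.DivCurve29.Colon

/-!
# Sums and differences of relative divisors on a smooth curve
-/

set_option autoImplicit false
set_option backward.isDefEq.respectTransparency false

universe u

open CategoryTheory CategoryTheory.Limits AlgebraicGeometry TopologicalSpace

namespace Groth.Agent.DivCurve29

variable {X S : Scheme.{u}} (f : X ⟶ S) [SmoothOfRelativeDimension 1 f]

/-- A common affine chart where both ideals are principal. -/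
theorem exists_chart {I J : X.IdealSheafData} (hI : BlowUp.IsEffCartierIdeal I)
    (hJ : BlowUp.IsEffCartierIdeal J) (x : X) :
    ∃ (V : S.affineOpens) (U : X.affineOpens) (_ : x ∈ U.1) (_ : U.1 ≤ f ⁻¹ᵁ V.1)
      (a b : Γ(X, U.1)), a ∈ nonZeroDivisors Γ(X, U.1) ∧ b ∈ nonZeroDivisors Γ(X, U.1) ∧
        I.ideal U = Ideal.span {a} ∧ J.ideal U = Ideal.span {b} := by
  obtain ⟨V, hV, hxV, -⟩ := Opens.isBasis_iff_nbhd.mp S.isBasis_affineOpens (Opens.mem_top (f x))
  obtain ⟨U₀, hxU₀, hU₀, a, ha, haI⟩ := ModPairLib.exists_local hI x (f ⁻¹ᵁ V) hxV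
  obtain ⟨U, hxU, hU, b, hb, hbJ⟩ := ModPairLib.exists_local hJ x U₀.1 hxU₀
  exact ⟨⟨V, hV⟩, U, hxU, hU.trans hU₀, _, b, ModPairLib.res_mem_nonZeroDivisors hU ha, hb,
    ModPairLib.ideal_restrict I hU haI, hbJ⟩

theorem fibre_isEffCartier (I : X.IdealSheafData) (h : Mor2.IsFinLocFree (I.subschemeι ≫ f))
    (s : S) : BlowUp.IsEffCartierIdeal (I.comap (f.fiberι s)) := by
  obtain ⟨hfin, -, -⟩ := h
  have := smoothOfRelativeDimension_isStableUnderBaseChange.{u} 1
  have : SmoothOfRelativeDimension 1 (f.fiberToSpecResidueField s) :=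
    MorphismProperty.pullback_snd (P := @SmoothOfRelativeDimension 1) _ _ ‹_›
  have : IsFinite ((I.comap (f.fiberι s)).subschemeι ≫ f.fiberToSpecResidueField s) := by
    rw [← I.comapIso_hom_fst (f.fiberι s), Category.assoc]
    have : IsFinite (pullback.fst (f.fiberι s) I.subschemeι ≫ f.fiberToSpecResidueField s) :=
      MorphismProperty.of_isPullback (P := @IsFinite)
        ((IsPullback.of_hasPullback _ _).flip.paste_vert (IsPullback.of_hasPullback f _)) hfin
    infer_instance
  exact isEffCartier_of_field (S.residueField s) (f.fiberToSpecResidueField s) _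

/-- The sum of two relative divisors. -/
theorem mul_isDiv {I J : X.IdealSheafData} {d e : ℕ}
    (hI : Mor2.IsFinLocFreeOfDeg d (I.subschemeι ≫ f))
    (hJ : Mor2.IsFinLocFreeOfDeg e (J.subschemeι ≫ f)) :
    Mor2.IsFinLocFreeOfDeg (d + e) ((I * J).subschemeι ≫ f) := by
  have cI := isEffCartier f I hI.1
  have cJ := isEffCartier f J hJ.1
  have : Smooth f := SmoothOfRelativeDimension.smooth 1 f
  obtain ⟨⟨hIf, hIfl, hIp⟩, hId⟩ := hI
  obtain ⟨⟨hJf, hJfl, hJp⟩, hJd⟩ := hJ
  have hlfp : LocallyOfFinitePresentation ((I * J).subschemeι ≫ f) := by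
    refine of_quot f (I * J) (RingHom.finitePresentation_stableUnderComposition.stableUnderCompositionWithLocalizationAway RingHom.finitePresentation_holdsForLocalizationAway).1
      RingHom.finitePresentation_respectsIso fun x _ => ?_
    obtain ⟨V, U, hxU, e, a, b, -, -, ha, hb⟩ := exists_chart f cI cJ x
    refine ⟨V, U, hxU, e, ?_⟩
    rw [Scheme.IdealSheafData.ideal_mul, Pi.mul_apply, ha, hb, Ideal.span_singleton_mul_span_singleton]
    exact ringHom_finitePresentation_quot _
      (HasRingHomProperty.appLE @LocallyOfFinitePresentation f inferInstance V U e) _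
  have hfl : Flat ((I * J).subschemeι ≫ f) := by
    refine of_quot f (I * J) (RingHom.Flat.stableUnderComposition.stableUnderCompositionWithLocalizationAway RingHom.Flat.holdsForLocalizationAway).1
      RingHom.Flat.respectsIso fun x _ => ?_
    obtain ⟨V, U, hxU, e, a, b, ha0, -, ha, hb⟩ := exists_chart f cI cJ x
    refine ⟨V, U, hxU, e, ?_⟩
    rw [Scheme.IdealSheafData.ideal_mul, Pi.mul_apply, ha, hb, Ideal.span_singleton_mul_span_singleton]
    exact ringHom_flat_quot_mul _ ha0 (ha ▸ quot_of f I RingHom.Flat.respectsIso hIfl V U e)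
      (hb ▸ quot_of f J RingHom.Flat.respectsIso hJfl V U e)
  have hfin : IsFinite ((I * J).subschemeι ≫ f) := isFinite_mul f I J
  exact ⟨⟨hfin, hfl, hlfp⟩, fun s => by
    rw [finrank_mul f I J (fibre_isEffCartier f I ⟨hIf, hIfl, hIp⟩)
      (fibre_isEffCartier f J ⟨hJf, hJfl, hJp⟩) s, hId, hJd]⟩

/-- The difference of two relative divisors. -/
theorem exists_residual {I₁ I₂ : X.IdealSheafData} {d₁ d₂ : ℕ} (hle : I₂ ≤ I₁)
    (h₁ : Mor2.IsFinLocFreeOfDeg d₁ (I₁.subschemeι ≫ f))
    (h₂ : Mor2.IsFinLocFreeOfDeg d₂ (I₂.subschemeι ≫ f)) :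
    ∃ I : X.IdealSheafData, Mor2.IsFinLocFreeOfDeg (d₂ - d₁) (I.subschemeι ≫ f) ∧ I₂ = I₁ * I := by
  have c₁ := isEffCartier f I₁ h₁.1
  have c₂ := isEffCartier f I₂ h₂.1
  obtain ⟨K, rfl⟩ := exists_eq_mul c₁ hle
  have cK : BlowUp.IsEffCartierIdeal K := by
    refine ModPairLib.isEffCartier_of_mul ?_ c₁
    rwa [mul_comm]
  have : Smooth f := SmoothOfRelativeDimension.smooth 1 f
  obtain ⟨⟨hf₁, hfl₁, hp₁⟩, hd₁⟩ := h₁
  obtain ⟨⟨hf₂, hfl₂, hp₂⟩, hd₂⟩ := h₂
  have hfinK : IsFinite (K.subschemeι ≫ f) := by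
    rw [← Scheme.IdealSheafData.inclusion_subschemeι (mul_le_right' I₁ K), Category.assoc]
    have : IsClosedImmersion (Scheme.IdealSheafData.inclusion (mul_le_right' I₁ K) ≫
        (I₁ * K).subschemeι) := by
      rw [Scheme.IdealSheafData.inclusion_subschemeι]; infer_instance
    have := IsClosedImmersion.of_comp_isClosedImmersion
      (Scheme.IdealSheafData.inclusion (mul_le_right' I₁ K)) (I₁ * K).subschemeι
    infer_instance
  have hlfpK : LocallyOfFinitePresentation (K.subschemeι ≫ f) := by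
    refine of_quot f K (RingHom.finitePresentation_stableUnderComposition.stableUnderCompositionWithLocalizationAway RingHom.finitePresentation_holdsForLocalizationAway).1
      RingHom.finitePresentation_respectsIso fun x _ => ?_
    obtain ⟨V, U, hxU, e, a, b, -, -, ha, hb⟩ := exists_chart f c₁ cK x
    refine ⟨V, U, hxU, e, ?_⟩
    rw [hb]
    exact ringHom_finitePresentation_quot _
      (HasRingHomProperty.appLE @LocallyOfFinitePresentation f inferInstance V U e) _
  have hflK : Flat (K.subschemeι ≫ f) := by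
    refine of_quot f K (RingHom.Flat.stableUnderComposition.stableUnderCompositionWithLocalizationAway RingHom.Flat.holdsForLocalizationAway).1
      RingHom.Flat.respectsIso fun x _ => ?_
    obtain ⟨V, U, hxU, e, a, b, ha0, -, ha, hb⟩ := exists_chart f c₁ cK x
    refine ⟨V, U, hxU, e, ?_⟩
    have h12 := quot_of f (I₁ * K) RingHom.Flat.respectsIso hfl₂ V U e
    rw [Scheme.IdealSheafData.ideal_mul, Pi.mul_apply, ha, hb, Ideal.span_singleton_mul_span_singleton] at h12
    rw [hb]
    exact ringHom_flat_quot_of_mul _ ha0 (ha ▸ quot_of f I₁ RingHom.Flat.respectsIso hfl₁ V U e) h12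
  refine ⟨K, ⟨⟨hfinK, hflK, hlfpK⟩, fun s => ?_⟩, rfl⟩
  have h := finrank_mul f I₁ K (fibre_isEffCartier f I₁ ⟨hf₁, hfl₁, hp₁⟩)
    (fibre_isEffCartier f K ⟨hfinK, hflK, hlfpK⟩) s
  rw [hd₁ s, hd₂ s] at h
  omega

/-- A relative divisor contained in another of the same degree is equal to it. -/
theorem eq_of_le {I J : X.IdealSheafData} {d : ℕ} (hle : I ≤ J)
    (hI : Mor2.IsFinLocFreeOfDeg d (I.subschemeι ≫ f))
    (hJ : Mor2.IsFinLocFreeOfDeg d (J.subschemeι ≫ f)) : I = J := by
  obtain ⟨K, ⟨⟨hKf, hKfl, hKp⟩, hKd⟩, rfl⟩ := exists_residual f hle hJ hI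
  have : IsEmpty K.subscheme := ⟨fun z => by
    have h := Scheme.Hom.one_le_finrank_map (K.subschemeι ≫ f) z
    rw [hKd, Nat.sub_self] at h
    exact absurd h (by omega)⟩
  have hK : K = ⊤ := by
    rw [← K.ker_subschemeι]
    exact Scheme.Hom.ker_eq_top_iff_isEmpty _ |>.2 ‹_›
  refine le_antisymm (mul_le_left' J K) fun U => ?_
  rw [hK, Scheme.IdealSheafData.ideal_mul, Pi.mul_apply, Scheme.IdealSheafData.ideal_top,
    Pi.top_apply, Ideal.mul_top]

end Groth.Agent.DivCurve29
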