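import Groth.Agent.DivCurve29.Cartier
import Groth.Agent.DivCurve29.Algebra
import Groth.Agent.CAlgH.BlowupFlatPowers
import Groth.Agent.ModPairLib.EffCartier
import Mathlib.RingTheory.KrullDimension.NonZeroDivisors

/-!
# Relative effective Cartier divisors on smooth curves are quasi-finite
-/

set_option autoImplicit false
set_option backward.isDefEq.respectTransparency false

universe u

open CategoryTheory CategoryTheory.Limits AlgebraicGeometry TopologicalSpace

namespace Groth.Agent.DivCurve29

theorem lfp_of_isEffCartier {X S : Scheme.{u}} (f : X ⟶ S) [LocallyOfFinitePresentation f]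
    (I : X.IdealSheafData) (hI : BlowUp.IsEffCartierIdeal I) :
    LocallyOfFinitePresentation (I.subschemeι ≫ f) := by
  refine of_quot f I (RingHom.finitePresentation_stableUnderComposition.stableUnderCompositionWithLocalizationAway
    RingHom.finitePresentation_holdsForLocalizationAway).1 RingHom.finitePresentation_respectsIso fun x _ => ?_
  obtain ⟨V, hV, hxV, -⟩ := Opens.isBasis_iff_nbhd.mp S.isBasis_affineOpens (Opens.mem_top (f x))
  obtain ⟨U, hxU, e, a, -, haI⟩ := ModPairLib.exists_local hI x (f ⁻¹ᵁ V) hxV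
  refine ⟨⟨V, hV⟩, U, hxU, e, ?_⟩
  rw [haI]
  exact ringHom_finitePresentation_quot _ (LocallyOfFinitePresentation.finitePresentation_appLE f hV U.2 e) a

theorem ringKrullDim_le_one {k : Type u} [Field k] {X : Scheme.{u}}
    (c : X ⟶ Spec (CommRingCat.of k)) [SmoothOfRelativeDimension 1 c] (x : X) :
    ∃ U₀ : X.Opens, x ∈ U₀ ∧ ∀ U : X.affineOpens, U.1 ≤ U₀ → ringKrullDim Γ(X, U.1) ≤ 1 := by
  obtain ⟨W, hW, U, hU, hxU, e, h⟩ := SmoothOfRelativeDimension.exists_isStandardSmoothOfRelativeDimension (n := 1) (f := c) x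
  obtain rfl : W = ⊤ := by
    ext y
    simp only [Opens.coe_top, Set.mem_univ, iff_true]
    have : Subsingleton (Spec (CommRingCat.of k)) := inferInstanceAs (Subsingleton (PrimeSpectrum k))
    exact Subsingleton.elim (c x) y ▸ e hxU
  let φ : k →+* Γ(X, U) := (c.appLE ⊤ U e).hom.comp (Scheme.ΓSpecIso (CommRingCat.of k)).inv.hom
  algebraize [φ]
  have hφ : RingHom.IsStandardSmoothOfRelativeDimension 1 φ :=
    RingHom.isStandardSmoothOfRelativeDimension_respectsIso.2 _
      (Scheme.ΓSpecIso (CommRingCat.of k)).symm.commRingCatIsoToRingEquiv h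
  have : Algebra.IsStandardSmoothOfRelativeDimension 1 k Γ(X, U) := hφ
  refine ⟨U, hxU, fun V hVU => ?_⟩
  refine le_trans ?_ (BertiniLib.ringKrullDim_le_of_isStandardSmooth (k := k) (C := Γ(X, U)) 1)
  rw [← PrimeSpectrum.topologicalKrullDim_eq_ringKrullDim, ← PrimeSpectrum.topologicalKrullDim_eq_ringKrullDim]
  refine le_trans ((V.2.isoSpec.inv.isOpenEmbedding).isEmbedding.isInducing.topologicalKrullDim_le) ?_
  refine le_trans ((X.homOfLE hVU).isOpenEmbedding.isEmbedding.isInducing.topologicalKrullDim_le) ?_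
  exact (hU.isoSpec.hom.isOpenEmbedding).isEmbedding.isInducing.topologicalKrullDim_le

theorem locallyQuasiFinite_of_field (k : Type u) [Field k] {X : Scheme.{u}}
    (c : X ⟶ Spec (CommRingCat.of k)) [SmoothOfRelativeDimension 1 c] (I : X.IdealSheafData)
    (hI : BlowUp.IsEffCartierIdeal I) : LocallyQuasiFinite (I.subschemeι ≫ c) := by
  have : Smooth c := SmoothOfRelativeDimension.smooth 1 c
  refine of_quot (P := @LocallyQuasiFinite) c I (RingHom.QuasiFinite.stableUnderComposition.stableUnderCompositionWithLocalizationAway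
    RingHom.QuasiFinite.holdsForLocalizationAway).1
    RingHom.QuasiFinite.propertyIsLocal.respectsIso fun x _ => ?_
  obtain ⟨U₀, hxU₀, hdim⟩ := ringKrullDim_le_one c x
  obtain ⟨U, hxU, hUU₀, a, ha, haI⟩ := ModPairLib.exists_local hI x U₀ hxU₀
  have e : U.1 ≤ c ⁻¹ᵁ (⊤ : (Spec (CommRingCat.of k)).Opens) := le_top
  refine ⟨⟨⊤, isAffineOpen_top _⟩, U, hxU, e, ?_⟩
  rw [haI]
  let φ : k →+* Γ(X, U.1) := (c.appLE ⊤ U.1 e).hom.comp (Scheme.ΓSpecIso (CommRingCat.of k)).inv.hom
  algebraize [φ]
  have : Algebra.FiniteType k Γ(X, U.1) := by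
    have h := LocallyOfFiniteType.finiteType_appLE c (isAffineOpen_top _) U.2 e
    exact RingHom.finiteType_algebraMap.1 (RingHom.finiteType_respectsIso.2 _
      (Scheme.ΓSpecIso (CommRingCat.of k)).symm.commRingCatIsoToRingEquiv h)
  have hd : ringKrullDim (Γ(X, U.1) ⧸ Ideal.span {a}) ≤ 0 := by
    have h1 := (ringKrullDim_quotient_succ_le_of_nonZeroDivisor ha).trans (hdim U hUU₀)
    generalize ringKrullDim (Γ(X, U.1) ⧸ Ideal.span {a}) = d at h1
    induction d using WithBot.recBotCoe with
    | bot => exact bot_le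
    | coe d =>
      rw [← WithBot.coe_one, ← WithBot.coe_add, WithBot.coe_le_coe] at h1
      rw [← WithBot.coe_zero, WithBot.coe_le_coe]
      induction d using ENat.recTopCoe with
      | top => simp at h1
      | coe d =>
        have : d + 1 ≤ 1 := by exact_mod_cast h1
        exact_mod_cast (by omega : d ≤ 0)
  have : IsNoetherianRing Γ(X, U.1) := Algebra.FiniteType.isNoetherianRing k _
  have : Ring.KrullDimLE 0 (Γ(X, U.1) ⧸ Ideal.span {a}) := Ring.krullDimLE_iff.2 hd
  have : IsArtinianRing (Γ(X, U.1) ⧸ Ideal.span {a}) := IsNoetherianRing.isArtinianRing_of_krullDimLE_zero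
  have : Module.Finite k (Γ(X, U.1) ⧸ Ideal.span {a}) :=
    (Module.finite_iff_isArtinianRing k _).2 ‹_›
  have hq : (algebraMap k (Γ(X, U.1) ⧸ Ideal.span {a})).QuasiFinite :=
    RingHom.quasiFinite_algebraMap.2 inferInstance
  have h2 := RingHom.QuasiFinite.propertyIsLocal.respectsIso.2 _
    (Scheme.ΓSpecIso (CommRingCat.of k)).commRingCatIsoToRingEquiv hq
  convert h2 using 1
  ext z
  show Ideal.Quotient.mk _ ((c.appLE ⊤ U.1 e).hom z) =
    Ideal.Quotient.mk _ ((c.appLE ⊤ U.1 e).hom ((Scheme.ΓSpecIso (CommRingCat.of k)).inv.hom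
      ((Scheme.ΓSpecIso (CommRingCat.of k)).hom.hom z)))
  exact congrArg (fun w => Ideal.Quotient.mk _ ((c.appLE ⊤ U.1 e).hom w))
    (ConcreteCategory.congr_hom (Scheme.ΓSpecIso (CommRingCat.of k)).hom_inv_id z).symm

/-- Relative effective Cartier divisors on smooth curves are quasi-finite. -/
theorem locallyQuasiFinite {X S : Scheme.{u}} (f : X ⟶ S) [SmoothOfRelativeDimension 1 f]
    (I : X.IdealSheafData) (hI : BlowUp.IsEffCartierIdeal I) [Flat (I.subschemeι ≫ f)] :
    LocallyQuasiFinite (I.subschemeι ≫ f) := by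
  have : Smooth f := SmoothOfRelativeDimension.smooth 1 f
  have : LocallyOfFinitePresentation (I.subschemeι ≫ f) := lfp_of_isEffCartier f I hI
  refine LocallyQuasiFinite.of_fiberToSpecResidueField _ fun s => ?_
  have := smoothOfRelativeDimension_isStableUnderBaseChange.{u} 1
  have : SmoothOfRelativeDimension 1 (f.fiberToSpecResidueField s) :=
    MorphismProperty.pullback_snd (P := @SmoothOfRelativeDimension 1) _ _ ‹_›
  have hq := locallyQuasiFinite_of_field (S.residueField s) (f.fiberToSpecResidueField s) _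
    (CAlgH.BlowupFlatPowers.isEffCartier_comap f I hI (S.fromSpecResidueField s) (IsPullback.of_hasPullback f _) :
      BlowUp.IsEffCartierIdeal (I.comap (f.fiberι s)))
  rw [← I.comapIso_hom_fst (f.fiberι s), Category.assoc] at hq
  have sq : IsPullback (pullback.snd (f.fiberι s) I.subschemeι)
      (pullback.fst (f.fiberι s) I.subschemeι ≫ f.fiberToSpecResidueField s)
      (I.subschemeι ≫ f) (S.fromSpecResidueField s) :=
    (IsPullback.of_hasPullback _ _).flip.paste_vert (IsPullback.of_hasPullback f _)
  have hq' := (MorphismProperty.cancel_left_of_respectsIso @LocallyQuasiFinite _ _).1 hq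
  exact ((MorphismProperty.cancel_left_of_respectsIso @LocallyQuasiFinite sq.isoPullback.hom
    (pullback.snd (I.subschemeι ≫ f) (S.fromSpecResidueField s))).1 (by rwa [sq.isoPullback_hom_snd]))

/-- Quasi-finite flat closed subschemes of smooth curves are effective Cartier. -/
theorem isEffCartier_of_lqf {X S : Scheme.{u}} (f : X ⟶ S) [SmoothOfRelativeDimension 1 f]
    (I : X.IdealSheafData) [LocallyQuasiFinite (I.subschemeι ≫ f)] [Flat (I.subschemeι ≫ f)]
    [LocallyOfFinitePresentation (I.subschemeι ≫ f)] : BlowUp.IsEffCartierIdeal I := by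
  have : Smooth f := SmoothOfRelativeDimension.smooth 1 f
  refine S8847.result f I fun s => ?_
  have := smoothOfRelativeDimension_isStableUnderBaseChange.{u} 1
  have : SmoothOfRelativeDimension 1 (f.fiberToSpecResidueField s) :=
    MorphismProperty.pullback_snd (P := @SmoothOfRelativeDimension 1) _ _ ‹_›
  have : LocallyQuasiFinite ((I.comap (f.fiberι s)).subschemeι ≫ f.fiberToSpecResidueField s) := by
    rw [← I.comapIso_hom_fst (f.fiberι s), Category.assoc]
    have : LocallyQuasiFinite (pullback.fst (f.fiberι s) I.subschemeι ≫ f.fiberToSpecResidueField s) := by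
      have sq : IsPullback (pullback.snd (f.fiberι s) I.subschemeι)
          (pullback.fst (f.fiberι s) I.subschemeι ≫ f.fiberToSpecResidueField s)
          (I.subschemeι ≫ f) (S.fromSpecResidueField s) :=
        (IsPullback.of_hasPullback _ _).flip.paste_vert (IsPullback.of_hasPullback f _)
      exact MorphismProperty.of_isPullback (P := @LocallyQuasiFinite) sq inferInstance
    infer_instance
  exact isEffCartier_of_field (S.residueField s) (f.fiberToSpecResidueField s) _

end Groth.Agent.DivCurve29
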